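import Groth.Agent.Hensel.HenselizationProps
import Groth.Agent.Hensel.HenselizationNormal
import Groth.Agent.Hensel.HenselizationDescent
import Mathlib.RingTheory.AlgebraicIndependent.TranscendenceBasis
import Mathlib.RingTheory.FiniteType
import Mathlib.RingTheory.DiscreteValuationRing.TFAE

/-!
# Strict henselizations as strict henselizations at closed points
-/

set_option autoImplicit false
set_option linter.style.haveILetI false

universe u

open IsLocalRing TensorProduct

namespace Groth.Agent.StrictModel13

/-- A strict henselization is also one of an intermediate rigid local ring. -/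
theorem isStrictHenselization_of_rigid {O O' A : Type u} [CommRing O] [IsLocalRing O] [CommRing O']
    [IsLocalRing O'] [CommRing A] [IsLocalRing A] [Algebra O A] [IsLocalHom (algebraMap O A)]
    [hA : Hensel.IsStrictHenselization O A] [Algebra O' A] [IsLocalHom (algebraMap O' A)]
    (ι : O →+* O') [IsLocalHom ι] (hc : (algebraMap O' A).comp ι = algebraMap O A)
    (hrigid : ∀ (T : Type u) [CommRing T] [HenselianLocalRing T] (f₁ f₂ : O' →+* T) [IsLocalHom f₁]
      [IsLocalHom f₂], f₁.comp ι = f₂.comp ι → (residue T).comp f₁ = (residue T).comp f₂ → f₁ = f₂) :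
    Hensel.IsStrictHenselization O' A where
  henselian := hA.henselian
  isSepClosure := by
    haveI := hA.isSepClosure.sep_closed
    haveI := hA.isSepClosure.separable
    letI : Algebra (ResidueField O) (ResidueField O') := (ResidueField.map ι).toAlgebra
    haveI : IsScalarTower (ResidueField O) (ResidueField O') (ResidueField A) :=
      IsScalarTower.of_algebraMap_eq fun x => by
        obtain ⟨r, rfl⟩ := residue_surjective x
        exact congrArg (residue A) congr($hc.symm r)
    exact ⟨inferInstance, Algebra.isSeparable_tower_top_of_isSeparable (ResidueField O) _ _⟩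
  universal := fun T _ _ f hf τ hτ => by
    haveI : IsLocalHom (f.comp ι) := RingHom.isLocalHom_comp _ _
    obtain ⟨g, ⟨hg, hgr⟩, huniq⟩ := hA.universal T (f.comp ι) τ (RingHom.ext fun x => by
      obtain ⟨r, rfl⟩ := residue_surjective x
      have h1 := congr($hτ (residue O' (ι r)))
      refine Eq.trans ?_ h1
      exact congrArg τ (congrArg (residue A) congr($hc.symm r)))
    haveI : IsLocalHom g := ⟨fun x hx => by
      by_contra h
      have h0 : residue T (g x) = 0 := by rw [hgr, (residue_eq_zero_iff x).2 h, map_zero]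
      exact ((residue_eq_zero_iff _).1 h0) hx⟩
    have he : g.comp (algebraMap O' A) = f := by
      haveI : IsLocalHom (g.comp (algebraMap O' A)) := RingHom.isLocalHom_comp _ _
      refine hrigid T _ f ?_ (RingHom.ext fun y => ?_)
      · rw [RingHom.comp_assoc, hc, hg]
      · exact (hgr _).trans congr($hτ (residue O' y))
    refine ⟨g, ⟨he, hgr⟩, fun g' hg' => huniq g' ⟨?_, hg'.2⟩⟩
    rw [← hc, ← RingHom.comp_assoc, hg'.1]

/-- The model ring over the strict henselization of the base. -/
theorem exists_model {P V B O A : Type u} [CommRing P] [CommRing V] [IsLocalRing V] [Algebra P V]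
    (M : Submonoid P) [IsLocalization M V] [CommRing B] [Algebra P B] [CommRing O] [IsLocalRing O] [Algebra B O]
    (p : Ideal B) [p.IsPrime] [IsLocalization.AtPrime O p] [CommRing A] [IsLocalRing A] [Algebra O A]
    [IsLocalHom (algebraMap O A)] [Hensel.IsStrictHenselization O A]
    [Algebra P (Hensel.StrictHenz V)] [IsScalarTower P V (Hensel.StrictHenz V)]
    (φ : V →+* O) [IsLocalHom φ] (hφ : φ.comp (algebraMap P V) = (algebraMap B O).comp (algebraMap P B))
    (halg : ∀ z : ResidueField O, ∃ f : Polynomial (ResidueField V), f ≠ 0 ∧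
      Polynomial.eval₂ (ResidueField.map φ) z f = 0) :
    ∃ (q : Ideal (Hensel.StrictHenz V ⊗[P] B)) (_ : q.IsMaximal),
      q.comap (Algebra.TensorProduct.includeLeftRingHom : Hensel.StrictHenz V →+* Hensel.StrictHenz V ⊗[P] B) =
        maximalIdeal (Hensel.StrictHenz V) ∧
      ∀ (O' : Type u) [CommRing O'] [IsLocalRing O'] [Algebra (Hensel.StrictHenz V ⊗[P] B) O']
        [IsLocalization.AtPrime O' q],
        ∃ (_ : Algebra O' A) (_ : IsLocalHom (algebraMap O' A)), Hensel.IsStrictHenselization O' A := by
  let RV := Hensel.StrictHenz V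
  let S := RV ⊗[P] B
  haveI hAh : HenselianLocalRing A := Hensel.IsStrictHenselization.henselian O
  haveI := (Hensel.IsStrictHenselization.isSepClosure (R := O) (S := A)).sep_closed
  haveI := (Hensel.IsStrictHenselization.isSepClosure (R := O) (S := A)).separable
  haveI := (Hensel.IsStrictHenselization.isSepClosure (R := V) (S := RV)).separable
  let f : V →+* A := (algebraMap O A).comp φ
  haveI : IsLocalHom f := RingHom.isLocalHom_comp _ _
  letI : Algebra (ResidueField V) (ResidueField A) := (ResidueField.map f).toAlgebra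
  let τ : ResidueField RV →ₐ[ResidueField V] ResidueField A := IsSepClosed.lift
  obtain ⟨g, ⟨hg, hgr⟩, -⟩ := Hensel.IsStrictHenselization.universal (R := V) (S := RV) A f τ.toRingHom
    (RingHom.ext τ.commutes)
  letI : Algebra P A := (((algebraMap O A).comp (algebraMap B O)).comp (algebraMap P B)).toAlgebra
  have hgc : ∀ r : P, g (algebraMap P RV r) = algebraMap P A r := fun r => by
    show g (algebraMap P RV r) = algebraMap O A (algebraMap B O (algebraMap P B r))
    rw [IsScalarTower.algebraMap_apply P V RV]
    exact congr($hg (algebraMap P V r)).trans (congrArg (algebraMap O A) congr($hφ r))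
  let gA : RV →ₐ[P] A := { g with commutes' := hgc }
  let bA : B →ₐ[P] A := { (algebraMap O A).comp (algebraMap B O) with commutes' := fun r => rfl }
  let ψ : S →ₐ[P] A := Algebra.TensorProduct.lift gA bA fun _ _ => Commute.all _ _
  have hψl : ∀ r : RV, ψ (r ⊗ₜ[P] 1) = g r := fun r => by
    refine (Algebra.TensorProduct.lift_tmul _ _ _ r 1).trans ?_
    rw [map_one, mul_one]
    rfl
  have hψr : ∀ b : B, ψ (1 ⊗ₜ[P] b) = algebraMap O A (algebraMap B O b) := fun b => by
    refine (Algebra.TensorProduct.lift_tmul _ _ _ 1 b).trans ?_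
    rw [map_one, one_mul]
    rfl
  haveI : IsLocalHom g := ⟨fun x hx => by
    by_contra h
    have h0 : residue A (g x) = 0 := by rw [hgr, (residue_eq_zero_iff x).2 h, map_zero]
    exact ((residue_eq_zero_iff _).1 h0) hx⟩
  let θ : S →+* ResidueField A := (residue A).comp ψ.toRingHom
  let q : Ideal S := RingHom.ker θ
  have hq_mem : ∀ s, s ∈ q ↔ ¬ IsUnit (ψ s) := fun s => (residue_eq_zero_iff _).trans Iff.rfl
  have hover : q.comap (Algebra.TensorProduct.includeLeftRingHom : RV →+* S) = maximalIdeal RV := by
    ext r
    rw [Ideal.mem_comap, hq_mem, mem_maximalIdeal, mem_nonunits_iff]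
    show ¬ IsUnit (ψ (r ⊗ₜ[P] 1)) ↔ _
    rw [hψl]
    exact not_congr ⟨fun h => IsLocalHom.map_nonunit r h, fun h => h.map g⟩
  letI : Algebra (ResidueField V) (ResidueField O) := (ResidueField.map φ).toAlgebra
  haveI : IsScalarTower (ResidueField V) (ResidueField O) (ResidueField A) :=
    IsScalarTower.of_algebraMap_eq fun x => by
      obtain ⟨r, rfl⟩ := residue_surjective x
      rfl
  haveI : Algebra.IsAlgebraic (ResidueField V) (ResidueField O) :=
    ⟨fun z => by obtain ⟨f, hf, e⟩ := halg z; exact ⟨f, hf, e⟩⟩
  haveI hAalg : Algebra.IsAlgebraic (ResidueField V) (ResidueField A) :=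
    Algebra.IsAlgebraic.trans (ResidueField V) (ResidueField O) (ResidueField A)
  let Sb : Subalgebra (ResidueField V) (ResidueField A) :=
    { θ.range.toSubsemiring with
      algebraMap_mem' := fun x => by
        obtain ⟨r, rfl⟩ := residue_surjective x
        exact ⟨algebraMap V RV r ⊗ₜ[P] 1, congrArg (residue A) ((hψl _).trans congr($hg r))⟩ }
  have hfield : IsField θ.range := Subalgebra.isField_of_algebraic Sb
  haveI hqmax : q.IsMaximal :=
    Ideal.Quotient.maximal_of_isField _ ((RingHom.quotientKerEquivRange θ).toMulEquiv.isField hfield)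
  refine ⟨q, hqmax, hover, fun O' _ _ _ _ => ?_⟩
  have hu : ∀ y : q.primeCompl, IsUnit (ψ.toRingHom y) := fun y => by
    by_contra h
    exact y.2 ((hq_mem _).2 h)
  let a' : O' →+* A := IsLocalization.lift hu
  letI : Algebra O' A := a'.toAlgebra
  haveI hl' : IsLocalHom (algebraMap O' A) := ⟨fun x hx => by
    obtain ⟨⟨s, y⟩, rfl⟩ := IsLocalization.mk'_surjective q.primeCompl x
    have hs : IsUnit (ψ s) := by
      have e : a' (IsLocalization.mk' O' s y) * ψ.toRingHom y = ψ.toRingHom s := by
        rw [← IsLocalization.lift_eq (S := O') hu (y : S), ← IsLocalization.lift_eq (S := O') hu s,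
          ← map_mul, IsLocalization.mk'_spec]
      show IsUnit (ψ.toRingHom s)
      rw [← e]
      exact hx.mul (hu y)
    exact (IsLocalization.AtPrime.isUnit_mk'_iff O' q s y).2 fun h => (hq_mem s).1 h hs⟩
  let incB : B →+* S := (Algebra.TensorProduct.includeRight : B →ₐ[P] S).toRingHom
  have hub : ∀ y : p.primeCompl, IsUnit ((algebraMap S O').comp incB y) := fun y => by
    refine IsLocalization.map_units O' (⟨incB y, fun h => ?_⟩ : q.primeCompl)
    refine (hq_mem _).1 h ?_
    show IsUnit (ψ (1 ⊗ₜ[P] (y : B)))
    rw [hψr]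
    exact (IsLocalization.map_units O y).map _
  let ι : O →+* O' := IsLocalization.lift hub
  have hιB : ∀ b : B, ι (algebraMap B O b) = algebraMap S O' (incB b) := fun b => IsLocalization.lift_eq hub b
  have hc : (algebraMap O' A).comp ι = algebraMap O A := by
    refine IsLocalization.ringHom_ext p.primeCompl (RingHom.ext fun b => ?_)
    show a' (ι (algebraMap B O b)) = _
    rw [hιB]
    exact (IsLocalization.lift_eq hu _).trans (hψr b)
  haveI : IsLocalHom ((algebraMap O' A).comp ι) := by rw [hc]; infer_instance
  haveI : IsLocalHom ι := isLocalHom_of_comp ι (algebraMap O' A)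
  let j : RV →+* O' := (algebraMap S O').comp Algebra.TensorProduct.includeLeftRingHom
  haveI : IsLocalHom j := ⟨fun r hr => by
    by_contra h
    have : r ∈ q.comap (Algebra.TensorProduct.includeLeftRingHom : RV →+* S) := by rw [hover]; exact h
    exact ((IsLocalization.AtPrime.isUnit_to_map_iff O' q _).1 hr) this⟩
  refine ⟨inferInstance, hl', isStrictHenselization_of_rigid ι hc fun T _ _ f₁ f₂ _ _ hι hres => ?_⟩
  have hB : ∀ b : B, f₁ (algebraMap S O' (incB b)) = f₂ (algebraMap S O' (incB b)) := fun b => by
    rw [← hιB]; exact congr($hι (algebraMap B O b))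
  have hR : f₁.comp j = f₂.comp j := by
    haveI : IsLocalHom (f₁.comp j) := RingHom.isLocalHom_comp _ _
    have hV : (f₂.comp j).comp (algebraMap V RV) = (f₁.comp j).comp (algebraMap V RV) := by
      refine IsLocalization.ringHom_ext M (RingHom.ext fun r => ?_)
      have e : (algebraMap V RV (algebraMap P V r)) ⊗ₜ[P] (1 : B) = incB (algebraMap P B r) := by
        rw [← IsScalarTower.algebraMap_apply, Algebra.algebraMap_eq_smul_one, TensorProduct.smul_tmul,
          ← Algebra.algebraMap_eq_smul_one]
        rfl
      show f₂ (algebraMap S O' ((algebraMap V RV (algebraMap P V r)) ⊗ₜ[P] (1 : B))) =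
        f₁ (algebraMap S O' ((algebraMap V RV (algebraMap P V r)) ⊗ₜ[P] (1 : B)))
      rw [e]
      exact (hB _).symm
    haveI : IsLocalHom ((f₁.comp j).comp (algebraMap V RV)) := RingHom.isLocalHom_comp _ _
    obtain ⟨g₀, -, huq⟩ := Hensel.IsStrictHenselization.universal (R := V) (S := RV) T
      ((f₁.comp j).comp (algebraMap V RV)) (ResidueField.map (f₁.comp j)) (RingHom.ext fun x => by
        obtain ⟨r, rfl⟩ := residue_surjective x
        rfl)
    exact (huq _ ⟨rfl, fun x => rfl⟩).trans (huq _ ⟨hV, fun x => (congr($hres (j x))).symm⟩).symm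
  refine IsLocalization.ringHom_ext q.primeCompl (RingHom.ext fun s => ?_)
  show f₁ (algebraMap S O' s) = f₂ (algebraMap S O' s)
  induction s using TensorProduct.induction_on with
  | zero => simp
  | tmul a b =>
    have e : a ⊗ₜ[P] b = (Algebra.TensorProduct.includeLeftRingHom : RV →+* S) a * incB b := by
      show _ = (a ⊗ₜ[P] (1 : B)) * ((1 : RV) ⊗ₜ[P] b)
      rw [Algebra.TensorProduct.tmul_mul_tmul, mul_one, one_mul]
    rw [e, map_mul, map_mul, map_mul]
    exact congrArg₂ (· * ·) congr($hR a) (hB b)
  | add a b ha hb => simp [ha, hb]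

/-- A finite transcendence basis of a residue field inside the coordinate ring. -/
theorem exists_basis {k B K : Type u} [Field k] [CommRing B] [Field K] [Algebra k K] (χ : B →+* K)
    (hfrac : ∀ z : K, ∃ a b : B, χ b ≠ 0 ∧ z * χ b = χ a) (s : Finset B)
    (hgen : ∀ b : B, χ b ∈ Algebra.adjoin k (χ '' (s : Set B))) :
    ∃ (σ : Type u) (_ : Finite σ) (b : σ → B), IsTranscendenceBasis k fun i => χ (b i) := by
  haveI : Algebra.IsAlgebraic (Algebra.adjoin k (χ '' (s : Set B))) K := ⟨fun z => by
    obtain ⟨a, b, hb, e⟩ := hfrac z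
    refine ⟨Polynomial.C ⟨χ b, hgen b⟩ * Polynomial.X - Polynomial.C ⟨χ a, hgen a⟩, fun h => hb ?_, ?_⟩
    · have := congrArg (fun p => Polynomial.coeff p 1) h
      exact congrArg Subtype.val (show (⟨χ b, hgen b⟩ : ↥(Algebra.adjoin k (χ '' (s : Set B)))) = 0 by simpa using! this)
    · rw [map_sub, map_mul, Polynomial.aeval_C, Polynomial.aeval_C, Polynomial.aeval_X]
      show χ b * z - χ a = 0
      rw [mul_comm, e, sub_self]⟩
  obtain ⟨t, ht, hb⟩ := exists_isTranscendenceBasis_subset (R := k) (A := K) (χ '' (s : Set B))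
  haveI : Finite ↥t := ((s.finite_toSet.image χ).subset ht).to_subtype
  choose b hbs hbe using fun i : ↥t => ht i.2
  refine ⟨↥t, inferInstance, b, ?_⟩
  rw [show (fun i => χ (b i)) = (Subtype.val : ↥t → K) from funext hbe]
  exact hb

/-- Polynomial coordinates with independent residues: the base of the model. -/
theorem exists_model_base {R B O A : Type u} [CommRing R] [IsLocalRing R] [CommRing B] [Algebra R B]
    [Algebra.FiniteType R B] [CommRing O] [IsLocalRing O] [Algebra B O] [Algebra R O] [IsScalarTower R B O]
    [IsLocalHom (algebraMap R O)] (p : Ideal B) [p.IsPrime] [IsLocalization.AtPrime O p]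
    [CommRing A] [IsLocalRing A] [Algebra O A] [IsLocalHom (algebraMap O A)]
    [Hensel.IsStrictHenselization O A] :
    ∃ (σ : Type u) (_ : Finite σ) (P : Ideal (MvPolynomial σ R)) (_ : P.IsPrime),
      P = (maximalIdeal R).map MvPolynomial.C ∧
      ∃ (S : Type u) (_ : CommRing S) (_ : Algebra (Hensel.StrictHenz (Localization.AtPrime P)) S)
        (_ : Algebra.FiniteType (Hensel.StrictHenz (Localization.AtPrime P)) S)
        (q : Ideal S) (_ : q.IsMaximal),
        q.comap (algebraMap (Hensel.StrictHenz (Localization.AtPrime P)) S) = maximalIdeal _ ∧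
        ∀ (O' : Type u) [CommRing O'] [IsLocalRing O'] [Algebra S O'] [IsLocalization.AtPrime O' q],
          ∃ (_ : Algebra O' A) (_ : IsLocalHom (algebraMap O' A)), Hensel.IsStrictHenselization O' A := by
  classical
  let k := ResidueField R
  let K := ResidueField O
  let χ : B →+* K := (residue O).comp (algebraMap B O)
  have hfrac : ∀ z : K, ∃ a b : B, χ b ≠ 0 ∧ z * χ b = χ a := fun z => by
    obtain ⟨y, rfl⟩ := residue_surjective z
    obtain ⟨⟨a, b⟩, rfl⟩ := IsLocalization.mk'_surjective p.primeCompl y
    refine ⟨a, b, (residue_ne_zero_iff_isUnit _).2 (IsLocalization.map_units O b), ?_⟩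
    exact (map_mul _ _ _).symm.trans (congrArg (residue O) (IsLocalization.mk'_spec O a b))
  obtain ⟨s, hs⟩ := (Algebra.FiniteType.out : (⊤ : Subalgebra R B).FG)
  have hgen : ∀ b : B, χ b ∈ Algebra.adjoin k (χ '' (s : Set B)) := fun b => by
    have hb : b ∈ Algebra.adjoin R (s : Set B) := hs ▸ Algebra.mem_top
    induction hb using Algebra.adjoin_induction with
    | mem x hx => exact Algebra.subset_adjoin ⟨x, hx, rfl⟩
    | algebraMap r =>
      have e : χ (algebraMap R B r) = algebraMap k K (residue R r) := by
        show residue O (algebraMap B O (algebraMap R B r)) = _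
        rw [← IsScalarTower.algebraMap_apply]
        rfl
      rw [e]; exact Subalgebra.algebraMap_mem _ _
    | add x y _ _ hx hy => rw [map_add]; exact add_mem hx hy
    | mul x y _ _ hx hy => rw [map_mul]; exact mul_mem hx hy
  obtain ⟨σ, hσ, b, hb⟩ := exists_basis χ hfrac s hgen
  let e : MvPolynomial σ R →+* B := (MvPolynomial.aeval b).toRingHom
  let P : Ideal (MvPolynomial σ R) := p.comap e
  have hres : χ.comp e = (MvPolynomial.aeval fun i => χ (b i)).toRingHom.comp (MvPolynomial.map (residue R)) := by
    refine MvPolynomial.ringHom_ext (fun r => ?_) (fun i => ?_)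
    · simp only [e, χ, RingHom.comp_apply, AlgHom.toRingHom_eq_coe, RingHom.coe_coe, MvPolynomial.aeval_C,
        MvPolynomial.map_C, ← IsScalarTower.algebraMap_apply R B O]
      rfl
    · simp [e, χ]
  have hχ : ∀ x : B, x ∈ p ↔ χ x = 0 := fun x => by
    rw [show χ x = residue O (algebraMap B O x) from rfl, residue_eq_zero_iff,
      IsLocalization.AtPrime.to_map_mem_maximal_iff O p]
  have hP : P = (maximalIdeal R).map MvPolynomial.C := by
    rw [← show RingHom.ker (MvPolynomial.map (σ := σ) (residue R)) = (maximalIdeal R).map MvPolynomial.C by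
      rw [MvPolynomial.ker_map, IsLocalRing.ker_residue]]
    ext x
    rw [Ideal.mem_comap, hχ, show χ (e x) = _ from congr($hres x), RingHom.mem_ker]
    exact map_eq_zero_iff _ hb.1
  refine ⟨σ, hσ, P, inferInstance, hP, ?_⟩
  let V := Localization.AtPrime P
  letI : Algebra (MvPolynomial σ R) B := e.toAlgebra
  haveI : Algebra.FiniteType (MvPolynomial σ R) B := by
    haveI : IsScalarTower R (MvPolynomial σ R) B :=
      IsScalarTower.of_algebraMap_eq fun r => (MvPolynomial.aeval_C b r).symm
    exact Algebra.FiniteType.of_restrictScalars_finiteType R (MvPolynomial σ R) B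
  letI : Algebra (MvPolynomial σ R) (Hensel.StrictHenz V) :=
    ((algebraMap V (Hensel.StrictHenz V)).comp (algebraMap (MvPolynomial σ R) V)).toAlgebra
  haveI : IsScalarTower (MvPolynomial σ R) V (Hensel.StrictHenz V) := IsScalarTower.of_algebraMap_eq fun _ => rfl
  have hu : ∀ y : P.primeCompl, IsUnit ((algebraMap B O).comp e y) := fun y =>
    IsLocalization.map_units O (⟨e y, y.2⟩ : p.primeCompl)
  let φ : V →+* O := IsLocalization.lift hu
  have hφ : φ.comp (algebraMap (MvPolynomial σ R) V) = (algebraMap B O).comp (algebraMap (MvPolynomial σ R) B) :=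
    IsLocalization.lift_comp hu
  haveI : IsLocalHom φ := ⟨fun x hx => by
    obtain ⟨⟨a, y⟩, rfl⟩ := IsLocalization.mk'_surjective P.primeCompl x
    refine (IsLocalization.AtPrime.isUnit_mk'_iff V P a y).2 fun ha => ?_
    have h : IsUnit (algebraMap B O (e a)) := by
      have e₁ : φ (IsLocalization.mk' V a y) * algebraMap B O (e y) = algebraMap B O (e a) := by
        rw [show algebraMap B O (e y) = φ (algebraMap _ V (y : MvPolynomial σ R)) from (congr($hφ y)).symm,
          ← map_mul, IsLocalization.mk'_spec]
        exact congr($hφ a)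
      rw [← e₁]
      exact hx.mul (hu y)
    exact (IsLocalization.AtPrime.isUnit_to_map_iff O p (e a)).1 h ha⟩
  have halg : ∀ z : K, ∃ f : Polynomial (ResidueField V), f ≠ 0 ∧ Polynomial.eval₂ (ResidueField.map φ) z f = 0 := by
    intro z
    haveI := hb.isAlgebraic
    obtain ⟨f, hf, hz⟩ := Algebra.IsAlgebraic.isAlgebraic (R := Algebra.adjoin k (Set.range fun i => χ (b i))) z
    have hle : ∀ c ∈ Algebra.adjoin k (Set.range fun i => χ (b i)), c ∈ (ResidueField.map φ).range := fun c hc => by
      induction hc using Algebra.adjoin_induction with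
      | mem x hx =>
        obtain ⟨i, rfl⟩ := hx
        refine ⟨residue V (algebraMap (MvPolynomial σ R) V (MvPolynomial.X i)), congrArg (residue O) ?_⟩
        exact (congr($hφ (MvPolynomial.X i))).trans (congrArg (algebraMap B O) (MvPolynomial.aeval_X b i))
      | algebraMap r =>
        obtain ⟨r, rfl⟩ := residue_surjective r
        refine ⟨residue V (algebraMap (MvPolynomial σ R) V (MvPolynomial.C r)), congrArg (residue O) ?_⟩
        refine (congr($hφ (MvPolynomial.C r))).trans ?_
        exact (congrArg (algebraMap B O) (MvPolynomial.aeval_C b r)).trans (IsScalarTower.algebraMap_apply R B O r).symm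
      | add x y _ _ hx hy => exact add_mem hx hy
      | mul x y _ _ hx hy => exact mul_mem hx hy
    have hl : f.map (algebraMap ↥(Algebra.adjoin k (Set.range fun i => χ (b i))) K) ∈ Polynomial.lifts (ResidueField.map φ) := by
      rw [Polynomial.lifts_iff_coeff_lifts]
      intro n
      rw [Polynomial.coeff_map]
      exact hle _ (f.coeff n).2
    obtain ⟨f', hf'⟩ := hl
    rw [Polynomial.coe_mapRingHom] at hf'
    refine ⟨f', fun h => hf ?_, ?_⟩
    · apply Polynomial.map_injective (algebraMap ↥(Algebra.adjoin k (Set.range fun i => χ (b i))) K) Subtype.val_injective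
      rw [← hf', h, Polynomial.map_zero, Polynomial.map_zero]
    · rw [← Polynomial.eval_map, hf', Polynomial.eval_map]
      exact hz
  obtain ⟨q, hq, hover, h⟩ := exists_model (A := A) P.primeCompl p φ hφ halg
  exact ⟨Hensel.StrictHenz V ⊗[MvPolynomial σ R] B, inferInstance, inferInstance, inferInstance, q, hq, hover, h⟩

/-- The base of the model is a field over a field. -/
theorem isField_strictHenz_of_field {k : Type u} [Field k] {σ : Type u} (P : Ideal (MvPolynomial σ k))
    [P.IsPrime] (hP : P = (maximalIdeal k).map MvPolynomial.C) :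
    IsField (Hensel.StrictHenz (Localization.AtPrime P)) := by
  have h0 : P = ⊥ := by
    rw [hP, IsLocalRing.isField_iff_maximalIdeal_eq.1 (Field.toIsField k), Ideal.map_bot]
  rw [IsLocalRing.isField_iff_maximalIdeal_eq, ← Hensel.map_maximalIdeal_of_isStrictHenselization
    (R := Localization.AtPrime P) (S := Hensel.StrictHenz (Localization.AtPrime P)),
    ← IsLocalization.AtPrime.map_eq_maximalIdeal P (Localization.AtPrime P)]
  refine (congrArg (Ideal.map _) ((congrArg (Ideal.map _) h0).trans Ideal.map_bot)).trans Ideal.map_bot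

/-- The base of the model is a discrete valuation ring over a discrete valuation ring. -/
theorem isDVR_strictHenz {R : Type u} [CommRing R] [IsDomain R] [IsDiscreteValuationRing R] {σ : Type u}
    [Finite σ] (P : Ideal (MvPolynomial σ R)) [P.IsPrime] (hP : P = (maximalIdeal R).map MvPolynomial.C) :
    ∃ h : IsDomain (Hensel.StrictHenz (Localization.AtPrime P)),
      IsDiscreteValuationRing (Hensel.StrictHenz (Localization.AtPrime P)) := by
  let V := Localization.AtPrime P
  let W := Hensel.StrictHenz V
  obtain ⟨ϖ, hϖ⟩ := IsDiscreteValuationRing.exists_irreducible R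
  haveI : IsDomain V := IsLocalization.isDomain_localization P.primeCompl_le_nonZeroDivisors
  have hV : maximalIdeal V = Ideal.span {algebraMap (MvPolynomial σ R) V (MvPolynomial.C ϖ)} := by
    refine (IsLocalization.AtPrime.map_eq_maximalIdeal P V).symm.trans ((congrArg (Ideal.map _) hP).trans ?_)
    rw [hϖ.maximalIdeal_eq, Ideal.map_span, Ideal.map_span, Set.image_singleton, Set.image_singleton]
  have hϖV : algebraMap (MvPolynomial σ R) V (MvPolynomial.C ϖ) ≠ 0 := fun h =>
    hϖ.ne_zero (MvPolynomial.C_injective _ _
      ((IsLocalization.injective V P.primeCompl_le_nonZeroDivisors (h.trans (map_zero _).symm)).trans (map_zero _).symm))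
  have hnf : ¬ IsField V := fun h => hϖV <| by
    have := hV.symm.trans (IsLocalRing.isField_iff_maximalIdeal_eq.1 h)
    exact Ideal.span_singleton_eq_bot.1 this
  haveI : IsNoetherianRing V := IsLocalization.isNoetherianRing P.primeCompl V inferInstance
  have h4 : IsDiscreteValuationRing V ↔ (maximalIdeal V).IsPrincipal :=
    (IsDiscreteValuationRing.TFAE V hnf).out 0 4
  haveI : IsDiscreteValuationRing V := h4.2 ⟨⟨_, hV⟩⟩
  have hlike := Hensel.isHenzLike_of_isStrictHenselization V W
  haveI : IsDomain W := (hlike.normal_iff.1 ⟨inferInstance, inferInstance⟩).1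
  haveI : IsNoetherianRing W := hlike.isNoetherianRing_iff.1 inferInstance
  haveI := hlike.faithfullyFlat
  have hW : maximalIdeal W = Ideal.span {algebraMap V W (algebraMap (MvPolynomial σ R) V (MvPolynomial.C ϖ))} := by
    rw [← Hensel.map_maximalIdeal_of_isStrictHenselization (R := V) (S := W), hV, Ideal.map_span, Set.image_singleton]
  have hnfW : ¬ IsField W := fun h => hϖV <| by
    refine FaithfulSMul.algebraMap_injective V W (Eq.trans ?_ (map_zero _).symm)
    exact Ideal.span_singleton_eq_bot.1 (hW.symm.trans (IsLocalRing.isField_iff_maximalIdeal_eq.1 h))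
  have h4W : IsDiscreteValuationRing W ↔ (maximalIdeal W).IsPrincipal :=
    (IsDiscreteValuationRing.TFAE W hnfW).out 0 4
  exact ⟨inferInstance, h4W.2 ⟨⟨_, hW⟩⟩⟩

end Groth.Agent.StrictModel13
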