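import Groth.Agent.StrictModel13.Algebra
import Mathlib.AlgebraicGeometry.Morphisms.FiniteType
import Mathlib.AlgebraicGeometry.Properties

/-!
# The closed point model of a strict henselization of a scheme of finite type over a local ring
-/

set_option autoImplicit false
set_option linter.style.haveILetI false

universe u

open CategoryTheory AlgebraicGeometry IsLocalRing

namespace Groth.Agent.StrictModel13

theorem exists_closedPoint_model {R : Type u} [CommRing R] [IsLocalRing R] {X : Scheme.{u}}
    (f : X ⟶ Spec (CommRingCat.of R)) [LocallyOfFiniteType f] (x : X)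
    (hx : f x = (closedPoint R : PrimeSpectrum R))
    (A : Type u) [CommRing A] [IsLocalRing A] [Algebra (X.presheaf.stalk x) A]
    [IsLocalHom (algebraMap (X.presheaf.stalk x) A)] [Hensel.IsStrictHenselization (X.presheaf.stalk x) A] :
    ∃ (σ : Type u) (_ : Finite σ) (P : Ideal (MvPolynomial σ R)) (_ : P.IsPrime),
      P = (maximalIdeal R).map MvPolynomial.C ∧
      ∃ (X' : Scheme.{u}) (f' : X' ⟶ Spec (CommRingCat.of (Hensel.StrictHenz (Localization.AtPrime P))))
        (_ : LocallyOfFiniteType f') (_ : QuasiCompact f') (x' : X') (_ : IsClosed ({x'} : Set X'))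
        (_ : f' x' = (closedPoint (Hensel.StrictHenz (Localization.AtPrime P)) :
          PrimeSpectrum (Hensel.StrictHenz (Localization.AtPrime P))))
        (_ : Algebra (X'.presheaf.stalk x') A) (_ : IsLocalHom (algebraMap (X'.presheaf.stalk x') A)),
        Hensel.IsStrictHenselization (X'.presheaf.stalk x') A := by
  obtain ⟨U, hU, hxU, -⟩ := exists_isAffineOpen_mem_and_subset (U := (⊤ : X.Opens)) (show x ∈ ⊤ from trivial)
  let α : R →+* Γ(X, U) :=
    (f.appLE ⊤ U le_top).hom.comp (Scheme.ΓSpecIso (CommRingCat.of R)).inv.hom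
  have hft : α.FiniteType :=
    RingHom.FiniteType.comp
      (HasRingHomProperty.appLE @LocallyOfFiniteType f inferInstance ⟨⊤, isAffineOpen_top _⟩ ⟨U, hU⟩ le_top)
      (RingHom.FiniteType.of_surjective _
        (Scheme.ΓSpecIso (CommRingCat.of R)).symm.commRingCatIsoToRingEquiv.surjective)
  letI : Algebra R Γ(X, U) := α.toAlgebra
  haveI : Algebra.FiniteType R Γ(X, U) := hft
  letI : Algebra Γ(X, U) (X.presheaf.stalk x) := (X.presheaf.germ U x hxU).hom.toAlgebra
  haveI : IsLocalization.AtPrime (X.presheaf.stalk x) (hU.primeIdealOf ⟨x, hxU⟩).asIdeal :=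
    hU.isLocalization_stalk ⟨x, hxU⟩
  letI : Algebra R (X.presheaf.stalk x) := ((X.presheaf.germ U x hxU).hom.comp α).toAlgebra
  haveI : IsScalarTower R Γ(X, U) (X.presheaf.stalk x) := IsScalarTower.of_algebraMap_eq fun _ => rfl
  haveI : IsLocalHom (algebraMap R (X.presheaf.stalk x)) := ⟨fun r hr => by
    have h1 : x ∈ X.basicOpen (f.appTop ((Scheme.ΓSpecIso (CommRingCat.of R)).inv r)) := by
      rw [Scheme.mem_basicOpen_top]
      have e : X.presheaf.Γgerm x (f.appTop ((Scheme.ΓSpecIso (CommRingCat.of R)).inv r)) =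
          algebraMap R (X.presheaf.stalk x) r :=
        (X.presheaf.germ_res_apply (homOfLE (le_top : U ≤ ⊤)) x hxU _).symm
      exact e ▸ hr
    rw [← Scheme.preimage_basicOpen_top, basicOpen_eq_of_affine] at h1
    have h2 : f x ∈ PrimeSpectrum.basicOpen r := h1
    rw [hx] at h2
    by_contra hne
    exact h2 ((mem_maximalIdeal r).2 hne)⟩
  obtain ⟨σ, hσ, P, hPp, hP, S, _, _, _, q, hq, hover, h⟩ :=
    exists_model_base (R := R) (B := Γ(X, U)) (O := X.presheaf.stalk x) (A := A) (hU.primeIdealOf ⟨x, hxU⟩).asIdeal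
  let W := Hensel.StrictHenz (Localization.AtPrime P)
  let x' : ↥(Spec (CommRingCat.of S)) := (⟨q, hq.isPrime⟩ : PrimeSpectrum S)
  letI : Algebra S ((Spec (CommRingCat.of S)).presheaf.stalk x') := StructureSheaf.stalkAlgebra S x'
  haveI : IsLocalization.AtPrime ((Spec (CommRingCat.of S)).presheaf.stalk x') q :=
    StructureSheaf.IsLocalization.to_stalk S x'
  obtain ⟨hA, hl, hs⟩ := h ((Spec (CommRingCat.of S)).presheaf.stalk x')
  refine ⟨σ, hσ, P, hPp, hP, Spec (CommRingCat.of S), Spec.map (CommRingCat.ofHom (algebraMap W S)), ?_,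
    inferInstance, x', (PrimeSpectrum.isClosed_singleton_iff_isMaximal x').2 hq, PrimeSpectrum.ext hover, hA, hl, hs⟩
  exact HasRingHomProperty.Spec_iff.2 (RingHom.finiteType_algebraMap.2 inferInstance)

end Groth.Agent.StrictModel13
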